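import Mathlib
import Groth.Prelude.Def_Found

set_option autoImplicit false
universe u
open DirectSum

namespace Groth.Agent.Devissage3

variable {R : Type u} [CommRing R] {M : Type u} [AddCommGroup M] [Module R M]

/-- A map inducing an isomorphism onto a subquotient. -/
noncomputable def quotEquiv {A B C : Submodule R M} (h1 : A ⊓ C = ⊥) (h2 : A ⊔ C = B) :
    C ≃ₗ[R] B ⧸ A.comap B.subtype :=
  LinearEquiv.ofBijective ((A.comap B.subtype).mkQ ∘ₗ Submodule.inclusion (h2 ▸ le_sup_right)) (by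
    refine ⟨(injective_iff_map_eq_zero _).mpr fun c hc => ?_, fun y => ?_⟩
    · rw [LinearMap.comp_apply, Submodule.mkQ_apply, Submodule.Quotient.mk_eq_zero] at hc
      exact Subtype.ext ((Submodule.eq_bot_iff _).mp h1 c.1 ⟨hc, c.2⟩)
    · obtain ⟨⟨y, hy⟩, rfl⟩ := Submodule.Quotient.mk_surjective _ y
      obtain ⟨a, ha, c, hc, hac⟩ := Submodule.mem_sup.mp (show y ∈ A ⊔ C from h2.symm ▸ hy)
      refine ⟨⟨c, hc⟩, (Submodule.Quotient.eq _).mpr ?_⟩
      show c - y ∈ A
      rw [← hac]
      simpa using A.neg_mem ha)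

variable {S : Type u} [LinearOrder S] [WellFoundedLT S]

theorem isInternal_of_devissage (Mf : S → Submodule R M) (hmono : Monotone Mf)
    (hlim : ∀ s : S, Order.IsSuccPrelimit s → Mf s = ⨆ t : {t : S // t < s}, Mf t.1)
    (htop : (⨆ s, Mf s) = ⊤) (C : {p : S × S // p.1 ⋖ p.2} → Submodule R M)
    (h1 : ∀ p, Mf p.1.1 ⊓ C p = ⊥) (h2 : ∀ p, Mf p.1.1 ⊔ C p = Mf p.1.2) :
    DirectSum.IsInternal C := by
  classical
  rw [DirectSum.isInternal_submodule_iff_iSupIndep_and_iSup_eq_top]
  have hle : ∀ p, C p ≤ Mf p.1.2 := fun p => h2 p ▸ le_sup_right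
  refine ⟨?_, ?_⟩
  · have key : ∀ (T : Finset {p : S × S // p.1 ⋖ p.2}) (c : {p : S × S // p.1 ⋖ p.2} → M),
        (∀ q ∈ T, c q ∈ C q) → ∑ q ∈ T, c q = 0 → ∀ q ∈ T, c q = 0 := by
      intro T
      induction T using Finset.strongInduction with
      | H T ih =>
        intro c hc hsum q hq
        obtain ⟨p, hp, hmax⟩ := T.exists_max_image (fun r => r.1.2) ⟨q, hq⟩
        have hp0 : c p = 0 := by
          refine (Submodule.eq_bot_iff _).mp (h1 p) _ ⟨?_, hc p hp⟩
          rw [← Finset.add_sum_erase _ _ hp] at hsum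
          rw [eq_neg_of_add_eq_zero_left hsum]
          refine neg_mem (sum_mem fun r hr => hmono ?_ (hle r (hc r (Finset.mem_of_mem_erase hr))))
          have hne : r.1.2 ≠ p.1.2 := fun h => Finset.ne_of_mem_erase hr (Subtype.ext
            (Prod.ext ((h ▸ r.2 : r.1.1 ⋖ p.1.2).unique_left p.2) h))
          exact p.2.le_of_lt (lt_of_le_of_ne (hmax r (Finset.mem_of_mem_erase hr)) hne)
        by_cases hqp : q = p
        · exact hqp ▸ hp0
        · refine ih (T.erase p) (Finset.erase_ssubset hp) c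
            (fun r hr => hc r (Finset.mem_of_mem_erase hr)) ?_ q (Finset.mem_erase.mpr ⟨hqp, hq⟩)
          rw [← Finset.add_sum_erase _ _ hp, hp0, zero_add] at hsum
          exact hsum
    intro p
    rw [disjoint_iff, eq_bot_iff]
    rintro x ⟨hxp, hx⟩
    rw [SetLike.mem_coe, iSup_subtype', Submodule.mem_iSup_iff_exists_dfinsupp'] at hx
    obtain ⟨f, hf⟩ := hx
    let g : {p : S × S // p.1 ⋖ p.2} → M := fun q => if hq : q ≠ p then (f ⟨q, hq⟩ : M) else -x
    let T := insert p (f.support.image Subtype.val)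
    have hg : ∀ q ∈ T, g q ∈ C q := by
      intro q _
      by_cases hq : q ≠ p
      · simp only [g, dif_pos hq]; exact (f ⟨q, hq⟩).2
      · simp only [g, dif_neg hq]
        rw [not_not] at hq
        exact hq ▸ neg_mem hxp
    have hnot : p ∉ f.support.image Subtype.val := by simp
    have hsum : ∑ q ∈ T, g q = 0 := by
      rw [Finset.sum_insert hnot, Finset.sum_image fun a _ b _ h => Subtype.ext h]
      have : ∀ a ∈ f.support, g a.1 = (f a : M) := fun a _ => by simp [g, a.2]
      rw [Finset.sum_congr rfl this]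
      simp only [g, ne_eq, not_true_eq_false, dite_false]
      rw [← hf]
      exact neg_add_cancel _
    have := key T g hg hsum p (Finset.mem_insert_self _ _)
    simpa [g] using this
  · refine top_unique (htop ▸ iSup_le fun s => ?_)
    induction s using WellFoundedLT.induction with
    | ind s ih =>
      by_cases hs : Order.IsSuccPrelimit s
      · rw [hlim s hs]
        exact iSup_le fun t => ih t.1 t.2
      · obtain ⟨a, ha⟩ := Order.not_isSuccPrelimit_iff.mp hs
        rw [← h2 ⟨(a, s), ha⟩]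
        exact sup_le (ih a ha.lt) (le_iSup C _)

theorem nonempty_equiv_of_devissage (Mf : S → Submodule R M) (hmono : Monotone Mf)
    (hlim : ∀ s : S, Order.IsSuccPrelimit s → Mf s = ⨆ t : {t : S // t < s}, Mf t.1)
    (htop : (⨆ s, Mf s) = ⊤)
    (hsum : ∀ s t : S, s ⋖ t → ∃ C : Submodule R M, Mf s ⊓ C = ⊥ ∧ Mf s ⊔ C = Mf t) :
    Nonempty (M ≃ₗ[R] DirectSum {p : S × S // p.1 ⋖ p.2}
      fun p => ↥(Mf p.1.2) ⧸ Submodule.comap (Mf p.1.2).subtype (Mf p.1.1)) := by
  classical
  choose C h1 h2 using fun p : {p : S × S // p.1 ⋖ p.2} => hsum p.1.1 p.1.2 p.2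
  have hint := isInternal_of_devissage Mf hmono hlim htop C h1 h2
  exact ⟨(LinearEquiv.ofBijective (DirectSum.coeLinearMap C) hint).symm.trans
    (DFinsupp.mapRange.linearEquiv fun p => quotEquiv (h1 p) (h2 p))⟩

end Groth.Agent.Devissage3
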